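import Groth.Agent.Lib.PerfFlat.Basic
import Mathlib.CategoryTheory.Monoidal.Tor
import Mathlib.Algebra.Category.ModuleCat.Monoidal.Basic
import Mathlib.Algebra.Category.ModuleCat.Projective
import Mathlib.Algebra.Homology.ShortComplex.ModuleCat
import Mathlib.FieldTheory.PerfectClosure
import Mathlib.RingTheory.MvPolynomial.Basic
import Mathlib.RingTheory.TensorProduct.Maps

/-!
# Perfect rings are `Tor`-independent
-/

universe u

open CategoryTheory TensorProduct

namespace GrothLib.PerfTor

variable (p : ℕ) [hp : Fact p.Prime]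

/-- Existence of a ring endomorphism inverse to the `p`-th power map. -/
def HasRoot (C : Type u) [CommRing C] : Prop :=
  ∃ ρ : C →+* C, (∀ x, ρ x ^ p = x) ∧ ∀ x, ρ (x ^ p) = x

theorem hasRoot_of_bijective {C : Type u} [CommRing C] (h0 : (p : C) = 0)
    (hC : Function.Bijective fun c : C => c ^ p) : HasRoot p C := by
  rcases subsingleton_or_nontrivial C with hs | hn
  · exact ⟨RingHom.id C, fun x => Subsingleton.elim _ _, fun x => Subsingleton.elim _ _⟩
  · haveI : CharP C p := (CharP.charP_iff_prime_eq_zero hp.out).2 h0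
    haveI : PerfectRing C p := ⟨hC⟩
    exact ⟨((frobeniusEquiv C p).symm : C ≃+* C).toRingHom, frobeniusEquiv_symm_pow_p C p, fun x =>
      frobeniusEquiv_symm_pow C p x⟩

theorem hasRoot_tensor {A S T : Type u} [CommRing A] [CommRing S] [CommRing T] [Algebra A S] [Algebra A T]
    (hA : HasRoot p A) (hS : HasRoot p S) (hT : HasRoot p T) (h0 : (p : S) = 0) : HasRoot p (S ⊗[A] T) := by
  obtain ⟨ρA, hA, hA'⟩ := hA
  obtain ⟨ρS, hS, hS'⟩ := hS
  obtain ⟨ρT, hT, hT'⟩ := hT
  let D := S ⊗[A] T
  have key : ∃ ρ : D →+* D, ∀ s t, ρ (s ⊗ₜ[A] t) = ρS s ⊗ₜ ρT t := by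
    let f : S →+* D := (Algebra.TensorProduct.includeLeftRingHom).comp ρS
    let g : T →+* D := (Algebra.TensorProduct.includeRight (R := A) (A := S)).toRingHom.comp ρT
    have h1 : ∀ a, ρS (algebraMap A S a) = algebraMap A S (ρA a) := fun a => by
      conv_lhs => rw [← hA a, map_pow, hS']
    have h2 : ∀ a, ρT (algebraMap A T a) = algebraMap A T (ρA a) := fun a => by
      conv_lhs => rw [← hA a, map_pow, hT']
    have aux : ∀ (E : Type u) [CommRing E] (f : S →+* E) (g : T →+* E),
        (∀ a, f (algebraMap A S a) = g (algebraMap A T a)) →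
          ∃ h : D →+* E, ∀ s t, h (s ⊗ₜ[A] t) = f s * g t := fun E _ f g h => by
      letI := (f.comp (algebraMap A S)).toAlgebra
      let f' : S →ₐ[A] E := { f with commutes' := fun _ => rfl }
      let g' : T →ₐ[A] E := { g with commutes' := fun a => (h a).symm }
      exact ⟨(Algebra.TensorProduct.lift f' g' fun _ _ => Commute.all _ _).toRingHom, fun s t => by
        simp only [AlgHom.toRingHom_eq_coe, RingHom.coe_coe, Algebra.TensorProduct.lift_tmul]; rfl⟩
    obtain ⟨h, hh⟩ := aux D f g fun a => by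
      show ρS (algebraMap A S a) ⊗ₜ[A] (1 : T) = (1 : S) ⊗ₜ[A] ρT (algebraMap A T a)
      rw [h1, h2, Algebra.algebraMap_eq_smul_one (A := S), Algebra.algebraMap_eq_smul_one (A := T), smul_tmul]
    refine ⟨h, fun s t => ?_⟩
    rw [hh]
    exact (Algebra.TensorProduct.tmul_mul_tmul _ _ _ _).trans (by rw [mul_one, one_mul])
  obtain ⟨ρ, hρ⟩ := key
  refine ⟨ρ, fun x => ?_, fun x => ?_⟩
  all_goals rcases subsingleton_or_nontrivial D with hs | hn
  · exact Subsingleton.elim _ _
  · haveI : CharP D p := (CharP.charP_iff_prime_eq_zero hp.out).2 (by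
      rw [← map_natCast (Algebra.TensorProduct.includeLeftRingHom (R := A) (A := S) (B := T)), h0, map_zero])
    induction x using TensorProduct.induction_on with
    | zero => simp [hp.out.ne_zero]
    | tmul s t => rw [hρ, Algebra.TensorProduct.tmul_pow, hS, hT]
    | add x y hx hy => rw [map_add, add_pow_char, hx, hy]
  · exact Subsingleton.elim _ _
  · haveI : CharP D p := (CharP.charP_iff_prime_eq_zero hp.out).2 (by
      rw [← map_natCast (Algebra.TensorProduct.includeLeftRingHom (R := A) (A := S) (B := T)), h0, map_zero])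
    induction x using TensorProduct.induction_on with
    | zero => simp [hp.out.ne_zero]
    | tmul s t => rw [Algebra.TensorProduct.tmul_pow, hρ, hS', hT']
    | add x y hx hy => rw [add_pow_char, map_add, hx, hy]

section core

variable {T : Type u} [CommRing T]

theorem smul_top_mono_map {M N : Type u} [AddCommGroup M] [Module T M] [AddCommGroup N] [Module T N]
    (J : Ideal T) (f : M →ₗ[T] N) {x : M} (hx : x ∈ J • (⊤ : Submodule T M)) :
    f x ∈ J • (⊤ : Submodule T N) :=
  Submodule.smul_top_le_comap_smul_top J f hx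

theorem radical_smul_top {M : Type u} [AddCommGroup M] [Module T M] [Module.Projective T M]
    (J : Ideal T) (e e' : T) (hee : ∀ a, e * a ∈ J → e' * a ∈ J) (w : M)
    (hw : e • w ∈ J • (⊤ : Submodule T M)) : e' • w ∈ J • (⊤ : Submodule T M) := by
  classical
  obtain ⟨s, hs⟩ := Module.projective_def'.1 (inferInstance : Module.Projective T M)
  have h1 : e • s w ∈ J • (⊤ : Submodule T (M →₀ T)) := by
    rw [← map_smul]; exact smul_top_mono_map J s hw
  have h2 : ∀ i, e * s w i ∈ J := fun i => by
    have := smul_top_mono_map J (Finsupp.lapply i : (M →₀ T) →ₗ[T] T) h1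
    simpa using this
  have h3 : e' • s w ∈ J • (⊤ : Submodule T (M →₀ T)) := by
    rw [← Finsupp.sum_single (e' • s w)]
    refine Submodule.sum_mem _ fun i _ => ?_
    rw [← Finsupp.smul_single_one]
    exact Submodule.smul_mem_smul (hee _ (h2 i)) Submodule.mem_top
  have h4 := smul_top_mono_map J (Finsupp.linearCombination T id) h3
  rwa [map_smul, show Finsupp.linearCombination T id (s w) = w from DFunLike.congr_fun hs w] at h4

variable [CharP T p] [PerfectRing T p]

/-- `p ^ n`-th roots. -/
noncomputable def rt (f : T) (n : ℕ) : T := ((frobeniusEquiv T p).symm)^[n] f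

theorem rt_succ_pow (f : T) (n : ℕ) : rt p f (n + 1) ^ p = rt p f n := by
  rw [rt, Function.iterate_succ_apply', frobeniusEquiv_symm_pow_p]; rfl

theorem rt_pow (f : T) (n k : ℕ) : rt p f (n + k) ^ p ^ k = rt p f n := by
  induction k with
  | zero => simp
  | succ k ih => rw [← add_assoc, pow_succ', pow_mul, rt_succ_pow, ih]

theorem mem_of_pow_p {J : Ideal T} (hJ : J.IsRadical) {a : T} (h : a ^ p ∈ J) : a ∈ J := hJ ⟨p, h⟩

theorem root_mem {J : Ideal T} (hJ : J.IsRadical) {f a : T} {n : ℕ} (h : rt p f n * a ∈ J) :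
    rt p f (n + 1) * a ∈ J := by
  refine mem_of_pow_p p hJ ?_
  rw [mul_pow, rt_succ_pow, show a ^ p = a * a ^ (p - 1) by
    rw [← pow_succ', Nat.sub_add_cancel hp.out.one_le], ← mul_assoc]
  exact Ideal.mul_mem_right _ _ h

theorem sub_one_eq : ∃ k, p - 1 = k + 1 := ⟨p - 2, by have := hp.out.two_le; omega⟩

theorem rt_split (f : T) (n : ℕ) : rt p f n = rt p f (n + 1) * rt p f (n + 1) ^ (p - 1) := by
  rw [← pow_succ', Nat.sub_add_cancel hp.out.one_le, rt_succ_pow]

/-- The ideal generated by a radical ideal and all roots of `f`. -/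
noncomputable def adjoinRoots (J : Ideal T) (f : T) : Ideal T :=
  J ⊔ Ideal.span (Set.range (rt p f))

theorem mem_adjoinRoots_smul {M : Type u} [AddCommGroup M] [Module T M] (J : Ideal T) (f : T) {x : M}
    (hx : x ∈ adjoinRoots p J f • (⊤ : Submodule T M)) :
    ∃ n z, x - rt p f n • z ∈ J • (⊤ : Submodule T M) := by
  rw [adjoinRoots, Submodule.sup_smul] at hx
  obtain ⟨y, hy, z, hz, rfl⟩ := Submodule.mem_sup.1 hx
  suffices ∃ n w, z = rt p f n • w by
    obtain ⟨n, w, rfl⟩ := this
    exact ⟨n, w, by simpa using hy⟩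
  clear hy hx
  induction hz using Submodule.smul_induction_on' with
  | smul r hr m hm =>
    clear hm
    induction hr using Submodule.span_induction generalizing m with
    | mem r hr => obtain ⟨n, rfl⟩ := hr; exact ⟨n, m, rfl⟩
    | zero => exact ⟨0, 0, by simp⟩
    | add r s _ _ h h' =>
      obtain ⟨n, w, e⟩ := h m
      obtain ⟨n', w', e'⟩ := h' m
      exact ⟨n + n', rt p f (n + n') ^ (p ^ n' - 1) • w + rt p f (n' + n) ^ (p ^ n - 1) • w', by
        rw [add_smul, e, e', smul_add, smul_smul, smul_smul, ← pow_succ', add_comm n' n, ← pow_succ',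
          Nat.sub_add_cancel (pow_pos hp.out.pos _), Nat.sub_add_cancel (pow_pos hp.out.pos _), rt_pow,
          add_comm n n', rt_pow]⟩
    | smul c r _ h =>
      obtain ⟨n, w, e⟩ := h m
      exact ⟨n, c • w, by rw [smul_comm _ c w, ← e, smul_assoc]⟩
  | add y z _ _ h h' =>
    obtain ⟨n, w, e⟩ := h
    obtain ⟨n', w', e'⟩ := h'
    exact ⟨n + n', rt p f (n + n') ^ (p ^ n' - 1) • w + rt p f (n' + n) ^ (p ^ n - 1) • w', by
      rw [e, e', smul_add, smul_smul, smul_smul, ← pow_succ', add_comm n' n, ← pow_succ',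
        Nat.sub_add_cancel (pow_pos hp.out.pos _), Nat.sub_add_cancel (pow_pos hp.out.pos _), rt_pow,
        add_comm n n', rt_pow]⟩

variable (P : ℕ → Type u) [∀ i, AddCommGroup (P i)] [∀ i, Module T (P i)] [∀ i, Module.Projective T (P i)]
  (d : ∀ i, P (i + 1) →ₗ[T] P i) {C : Type u} [CommRing C] [Algebra T C] (ε : P 0 →ₗ[T] C)

/-- Exactness of the reduction of the resolution modulo `J`. -/
def Ex (J : Ideal T) : Prop :=
  ∀ i (x : P (i + 1)), d i x ∈ J • (⊤ : Submodule T (P i)) →
    ∃ y, x - d (i + 1) y ∈ J • (⊤ : Submodule T (P (i + 1)))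

variable {P d ε} (hd : ∀ i, Function.Exact (d (i + 1)) (d i)) (hε : Function.Exact (d 0) ε)
  (hεs : Function.Surjective ε)

include hε hεs in
theorem exact_zero (J : Ideal T) (z : P 0) (hz : ε z ∈ J • (⊤ : Submodule T C)) :
    ∃ y, z - d 0 y ∈ J • (⊤ : Submodule T (P 0)) := by
  have : J • (⊤ : Submodule T C) = (J • (⊤ : Submodule T (P 0))).map ε := by
    rw [Submodule.map_smul'', Submodule.map_top, LinearMap.range_eq_top.2 hεs]
  rw [this] at hz
  obtain ⟨j, hj, hjz⟩ := hz
  obtain ⟨y, hy⟩ := (hε (z - j)).1 (by rw [map_sub, hjz, sub_self])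
  exact ⟨y, by rw [hy, sub_sub_cancel]; exact hj⟩

theorem algebra_root (hC : HasRoot p C) {J : Ideal T} (hJ : J.IsRadical) {f : T} {n : ℕ} {c : C}
    (h : rt p f n • c ∈ J • (⊤ : Submodule T C)) : rt p f (n + 1) • c ∈ J • (⊤ : Submodule T C) := by
  rw [Ideal.smul_top_eq_map, Submodule.restrictScalars_mem] at h ⊢
  obtain ⟨ρ, hρ, hρ'⟩ := hC
  have h1 : (rt p f (n + 1) • c) ^ p ∈ J.map (algebraMap T C) := by
    rw [smul_pow, rt_succ_pow, show c ^ p = c * c ^ (p - 1) by
      rw [← pow_succ', Nat.sub_add_cancel hp.out.one_le], ← smul_mul_assoc]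
    exact Ideal.mul_mem_right _ _ h
  rw [← hρ' (rt p f (n + 1) • c)]
  suffices hle : (J.map (algebraMap T C)).map ρ ≤ J.map (algebraMap T C) from hle (Ideal.mem_map_of_mem ρ h1)
  rw [Ideal.map_map]
  refine Ideal.map_le_iff_le_comap.2 fun j hj => ?_
  show ρ (algebraMap T C j) ∈ J.map (algebraMap T C)
  rw [← frobeniusEquiv_symm_pow_p T p j, map_pow, hρ']
  exact Ideal.mem_map_of_mem _ (mem_of_pow_p p hJ (by rwa [frobeniusEquiv_symm_pow_p]))

include hd hε hεs in
theorem ex_step (hC : HasRoot p C) {J : Ideal T} (hJ : J.IsRadical) (h : Ex P d J) (f : T) :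
    Ex P d (adjoinRoots p J f) := by
  intro i x hx
  obtain ⟨n, z, hz⟩ := mem_adjoinRoots_smul p J f hx
  obtain ⟨k, hk⟩ := sub_one_eq p
  suffices ∃ y, rt p f (n + 1) ^ (p - 1) • z - d i y ∈ J • (⊤ : Submodule T (P i)) by
    obtain ⟨y, hy⟩ := this
    have h1 : d i (x - rt p f (n + 1) • y) ∈ J • (⊤ : Submodule T (P i)) := by
      have e : d i (x - rt p f (n + 1) • y) = (d i x - rt p f n • z) +
          rt p f (n + 1) • (rt p f (n + 1) ^ (p - 1) • z - d i y) := by
        rw [map_sub, map_smul, smul_sub, smul_smul, ← rt_split]; abel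
      rw [e]
      exact add_mem hz (Submodule.smul_mem _ _ hy)
    obtain ⟨w, hw⟩ := h i _ h1
    refine ⟨w, ?_⟩
    have hJle : J • (⊤ : Submodule T (P (i + 1))) ≤ adjoinRoots p J f • ⊤ := Submodule.smul_mono_left le_sup_left
    have e : x - d (i + 1) w = (x - rt p f (n + 1) • y - d (i + 1) w) + rt p f (n + 1) • y := by abel
    rw [e]
    exact add_mem (hJle hw) (Submodule.smul_mem_smul (Submodule.mem_sup_right (Submodule.subset_span ⟨_, rfl⟩))
      Submodule.mem_top)
  cases i with
  | zero =>
    refine exact_zero hε hεs J _ ?_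
    have h1 : rt p f n • ε z ∈ J • (⊤ : Submodule T C) := by
      have h2 := smul_top_mono_map J ε hz
      rwa [map_sub, map_smul, (hε (d 0 x)).2 ⟨x, rfl⟩, zero_sub, neg_mem_iff] at h2
    rw [map_smul, hk, pow_succ, mul_smul]
    exact Submodule.smul_mem _ _ (algebra_root p hC hJ h1)
  | succ i =>
    refine h i _ ?_
    have h1 : rt p f n • d i z ∈ J • (⊤ : Submodule T (P i)) := by
      have h2 := smul_top_mono_map J (d i) hz
      rwa [map_sub, map_smul, (hd i (d (i + 1) x)).2 ⟨x, rfl⟩, zero_sub, neg_mem_iff] at h2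
    rw [map_smul, hk, pow_succ, mul_smul]
    exact Submodule.smul_mem _ _ (radical_smul_top J _ _ (fun a ha => root_mem p hJ ha) _ h1)

theorem adjoinRoots_eq {J : Ideal T} (hJ : J.IsRadical) (f : T) :
    adjoinRoots p J f = (J ⊔ Ideal.span {f}).radical := by
  refine le_antisymm (sup_le (le_sup_left.trans Ideal.le_radical) (Ideal.span_le.2 ?_)) fun x hx => ?_
  · rintro _ ⟨n, rfl⟩
    exact ⟨p ^ n, by
      have := rt_pow p f 0 n
      rw [zero_add] at this
      rw [this]; exact Submodule.mem_sup_right (Ideal.subset_span rfl)⟩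
  · obtain ⟨m, hm⟩ := hx
    have hm' : x ^ p ^ m ∈ J ⊔ Ideal.span {f} :=
      Ideal.pow_mem_of_pow_mem _ hm (Nat.lt_pow_self hp.out.one_lt).le
    obtain ⟨j, hj, _, hg, he⟩ := Submodule.mem_sup.1 hm'
    obtain ⟨a, rfl⟩ := Ideal.mem_span_singleton'.1 hg
    obtain ⟨j', rfl⟩ := (bijective_iterateFrobenius T p m).2 j
    obtain ⟨a', rfl⟩ := (bijective_iterateFrobenius T p m).2 a
    rw [iterateFrobenius_def] at hj he
    rw [iterateFrobenius_def] at he
    have hx' : x = j' + a' * rt p f m := by
      refine (bijective_iterateFrobenius T p m).1 ?_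
      rw [iterateFrobenius_def, iterateFrobenius_def, add_pow_char_pow, mul_pow, ← he]
      have := rt_pow p f 0 m
      rw [zero_add] at this
      rw [this]; rfl
    rw [hx']
    exact add_mem (Submodule.mem_sup_left (hJ ⟨_, hj⟩))
      (Ideal.mul_mem_left _ _ (Submodule.mem_sup_right (Submodule.subset_span ⟨m, rfl⟩)))

include hd hε hεs in
theorem ex_radical (hC : HasRoot p C) {J : Ideal T} (hJ : J.IsRadical) : Ex P d J := by
  classical
  have hfin : ∀ F : Finset T, Ex P d (Ideal.span (F : Set T)).radical := fun F => by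
    induction F using Finset.induction with
    | empty =>
      rw [Finset.coe_empty, Ideal.span_empty]
      have : (⊥ : Ideal T).radical = ⊥ := le_antisymm (fun x ⟨m, hm⟩ => by
        rw [Ideal.mem_bot] at hm ⊢
        refine (bijective_iterateFrobenius T p m).1 ?_
        rw [iterateFrobenius_def, map_zero]
        exact pow_eq_zero_of_le (Nat.lt_pow_self hp.out.one_lt).le hm) bot_le
      rw [this]
      intro i x hx
      rw [Submodule.bot_smul, Submodule.mem_bot] at hx
      obtain ⟨y, hy⟩ := (hd i x).1 hx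
      exact ⟨y, by rw [hy, sub_self]; exact zero_mem _⟩
    | insert a s has ih =>
      have := ex_step p hd hε hεs hC (Ideal.radical_isRadical _) ih a
      have e : ((Ideal.span (s : Set T)).radical ⊔ Ideal.span {a}).radical =
          (Ideal.span (↑(insert a s) : Set T)).radical := by
        rw [Ideal.radical_sup, Ideal.radical_idem, ← Ideal.radical_sup, ← Ideal.span_union, Set.union_comm,
          ← Set.insert_eq, ← Finset.coe_insert]
      rwa [adjoinRoots_eq p (Ideal.radical_isRadical _), e] at this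
  intro i x hx
  obtain ⟨F, hF, hxF⟩ : ∃ F : Finset T, (F : Set T) ⊆ J ∧ d i x ∈ Ideal.span (F : Set T) • (⊤ : Submodule T (P i)) := by
    generalize d i x = w at hx ⊢
    induction hx using Submodule.smul_induction_on' with
    | smul r hr m _ => exact ⟨{r}, by simpa using hr, Submodule.smul_mem_smul (Ideal.subset_span (by simp)) Submodule.mem_top⟩
    | add v w _ _ h h' =>
      obtain ⟨F, hF, hv⟩ := h
      obtain ⟨G, hG, hw⟩ := h'
      exact ⟨F ∪ G, by simp [hF, hG], add_mem
        (Submodule.smul_mono_left (Ideal.span_mono (by simp)) hv)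
        (Submodule.smul_mono_left (Ideal.span_mono (by simp)) hw)⟩
  obtain ⟨y, hy⟩ := hfin F i x (Submodule.smul_mono_left Ideal.le_radical hxF)
  exact ⟨y, Submodule.smul_mono_left (hJ.radical_le_iff.2 (Ideal.span_le.2 hF)) hy⟩

end core

theorem isZero_tor (A B C : Type u) [CommRing A] [CommRing B] [CommRing C]
    [CharP A p] [Algebra A B] [Algebra A C]
    (hA : Function.Bijective fun a : A => a ^ p) (hB : Function.Bijective fun b : B => b ^ p)
    (hC : Function.Bijective fun c : C => c ^ p) (i : ℕ) :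
    Limits.IsZero (((Tor (ModuleCat.{u} A) (i + 1)).obj (ModuleCat.of A B)).obj (ModuleCat.of A C)) := by
  classical
  haveI : PerfectRing A p := ⟨hA⟩
  have h0A : (p : A) = 0 := CharP.cast_eq_zero A p
  rcases subsingleton_or_nontrivial B with hs | hnB
  · let G := (MonoidalCategory.tensoringLeft (ModuleCat.{u} A)).obj (ModuleCat.of A B)
    let Q := projectiveResolution (ModuleCat.of A C)
    let e : ((Tor (ModuleCat.{u} A) (i + 1)).obj (ModuleCat.of A B)).obj (ModuleCat.of A C) ≅
        ((G.mapHomologicalComplex (ComplexShape.down ℕ)).obj Q.complex).homology (i + 1) :=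
      Q.isoLeftDerivedObj G (i + 1)
    rw [e.isZero_iff, ← HomologicalComplex.exactAt_iff_isZero_homology,
      HomologicalComplex.exactAt_iff' _ (i + 2) (i + 1) i (by simp) (by simp), ShortComplex.moduleCat_exact_iff]
    have hz : ∀ z : B ⊗[A] Q.complex.X (i + 1), z = 0 := fun z => by
      induction z using TensorProduct.induction_on with
      | zero => rfl
      | tmul b m => rw [Subsingleton.elim b 0, zero_tmul]
      | add x y hx hy => rw [hx, hy, add_zero]
    exact fun x _ => ⟨0, (hz _).trans (hz x).symm⟩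
  haveI : CharP B p := (CharP.charP_iff_prime_eq_zero hp.out).2 (by
    rw [← map_natCast (algebraMap A B), h0A, map_zero])
  haveI : PerfectRing B p := ⟨hB⟩
  -- a flat perfect algebra surjecting to `B`
  let Q₀ := MvPolynomial B A
  let T := PerfectClosure Q₀ p
  let j : Q₀ →+* T := PerfectClosure.of Q₀ p
  letI : Algebra A T := (j.comp (algebraMap A Q₀)).toAlgebra
  haveI hTflat : Module.Flat A T :=
    GrothLib.PerfFlat.flat p (algebraMap A Q₀) (RingHom.id A) j (algebraMap A T)
      (RingHom.flat_algebraMap_iff.2 inferInstance) rfl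
  let π₀ : T →+* B := PerfectClosure.lift Q₀ p B (MvPolynomial.aeval id : Q₀ →ₐ[A] B).toRingHom
  have hπ₀ : ∀ x, π₀ (j x) = MvPolynomial.aeval id x := fun x =>
    DFunLike.congr_fun ((PerfectClosure.lift Q₀ p B).symm_apply_apply
      (MvPolynomial.aeval id : Q₀ →ₐ[A] B).toRingHom) x
  let π : T →ₐ[A] B := { π₀ with commutes' := fun a => (hπ₀ _).trans ((MvPolynomial.aeval id).commutes a) }
  have hπs : Function.Surjective π := fun b => ⟨j (MvPolynomial.X b), (hπ₀ _).trans (by simp)⟩
  let K := RingHom.ker π.toRingHom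
  have hK : K.IsRadical := fun x ⟨n, hn⟩ => by
    refine (bijective_iterateFrobenius B p n).1 ?_
    rw [iterateFrobenius_def, map_zero]
    exact pow_eq_zero_of_le (Nat.lt_pow_self hp.out.one_lt).le (by rw [← map_pow]; exact hn)
  have hCT : HasRoot p (T ⊗[A] C) :=
    hasRoot_tensor p (hasRoot_of_bijective p h0A hA) (hasRoot_of_bijective p (CharP.cast_eq_zero T p)
      PerfectRing.bijective_frobenius)
      (hasRoot_of_bijective p (by rw [← map_natCast (algebraMap A C), h0A, map_zero]) hC)
      (CharP.cast_eq_zero T p)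
  -- the resolution
  let R := projectiveResolution (ModuleCat.of A C)
  haveI : ∀ n, Module.Projective A (R.complex.X n) := fun n => (IsProjective.iff_projective _).2 (R.projective n)
  let d : ∀ n, R.complex.X (n + 1) →ₗ[A] R.complex.X n := fun n => (R.complex.d (n + 1) n).hom
  let q : R.complex.X 0 →ₗ[A] C := (R.π.f 0).hom
  have hq : Function.Surjective q := (ModuleCat.epi_iff_surjective _).1 (inferInstance : Epi (R.π.f 0))
  have hdq : Function.Exact (d 0) q := fun x =>
    ⟨fun hx => (ShortComplex.moduleCat_exact_iff _).1 R.exact₀ x hx, by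
      rintro ⟨y, rfl⟩
      exact congrArg (fun f => f.hom y) R.complex_d_comp_π_f_zero⟩
  have hdd : ∀ n, Function.Exact (d (n + 1)) (d n) := fun n x => ⟨fun hx => by
    have h1 := R.complex_exactAt_succ n
    rw [HomologicalComplex.exactAt_iff' _ (n + 2) (n + 1) n (by simp) (by simp),
      ShortComplex.moduleCat_exact_iff] at h1
    exact h1 x hx, by
    rintro ⟨y, rfl⟩
    exact congrArg (fun f => f.hom y) (R.complex.d_comp_d (n + 2) (n + 1) n)⟩
  have hex := ex_radical p (P := fun n => T ⊗[A] R.complex.X n) (d := fun n => (d n).baseChange T)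
    (ε := q.baseChange T) (fun n => Module.Flat.lTensor_exact T (hdd n)) (Module.Flat.lTensor_exact T hdq)
    (LinearMap.lTensor_surjective T hq) hCT hK
  -- comparison with `B ⊗ P`
  let red : ∀ n, T ⊗[A] R.complex.X n →ₗ[A] B ⊗[A] R.complex.X n := fun n => π.toLinearMap.rTensor _
  have hreds : ∀ n, Function.Surjective (red n) := fun n => LinearMap.rTensor_surjective _ hπs
  have hred : ∀ (n : ℕ) (w : T ⊗[A] R.complex.X n), w ∈ K • (⊤ : Submodule T (T ⊗[A] R.complex.X n)) ↔ red n w = 0 := fun n w => by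
    constructor
    · intro hw
      induction hw using Submodule.smul_induction_on' with
      | smul r hr m _ =>
        induction m using TensorProduct.induction_on with
        | zero => simp
        | tmul t v =>
          rw [smul_tmul', smul_eq_mul]
          show π (r * t) ⊗ₜ[A] v = 0
          rw [map_mul, show π r = 0 from hr, zero_mul, zero_tmul]
        | add a b ha hb => rw [smul_add, map_add, ha trivial, hb trivial, add_zero]
      | add a b _ _ ha hb => rw [map_add, ha, hb, add_zero]
    · intro hw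
      have hexact : Function.Exact ((LinearMap.ker π.toLinearMap).subtype) π.toLinearMap :=
        LinearMap.exact_subtype_ker_map π.toLinearMap
      obtain ⟨v, rfl⟩ := (rTensor_exact (R.complex.X n) hexact hπs w).1 hw
      clear hw
      induction v using TensorProduct.induction_on with
      | zero => simp
      | tmul k m =>
        rw [LinearMap.rTensor_tmul, Submodule.coe_subtype, ← mul_one (k : T), ← smul_eq_mul, ← smul_tmul']
        exact Submodule.smul_mem_smul k.2 Submodule.mem_top
      | add a b ha hb => rw [map_add]; exact add_mem ha hb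
  have hcomm : ∀ (n : ℕ) (w : T ⊗[A] R.complex.X (n + 1)), red n ((d n).baseChange T w) = (d n).lTensor B (red (n + 1) w) := fun n w => by
    induction w using TensorProduct.induction_on with
    | zero => simp
    | tmul t v => rfl
    | add a b ha hb => rw [map_add, map_add, ha, hb, map_add, map_add]
  let G := (MonoidalCategory.tensoringLeft (ModuleCat.{u} A)).obj (ModuleCat.of A B)
  let e : ((Tor (ModuleCat.{u} A) (i + 1)).obj (ModuleCat.of A B)).obj (ModuleCat.of A C) ≅
      ((G.mapHomologicalComplex (ComplexShape.down ℕ)).obj R.complex).homology (i + 1) :=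
    R.isoLeftDerivedObj G (i + 1)
  rw [e.isZero_iff, ← HomologicalComplex.exactAt_iff_isZero_homology,
    HomologicalComplex.exactAt_iff' _ (i + 2) (i + 1) i (by simp) (by simp), ShortComplex.moduleCat_exact_iff]
  change ∀ x : B ⊗[A] R.complex.X (i + 1), (d i).lTensor B x = 0 →
    ∃ y : B ⊗[A] R.complex.X (i + 2), (d (i + 1)).lTensor B y = x
  intro x hx
  obtain ⟨w, rfl⟩ := hreds (i + 1) x
  obtain ⟨y, hy⟩ := hex i w ((hred i _).2 (by rw [hcomm]; exact hx))
  refine ⟨red (i + 2) y, ?_⟩
  rw [← hcomm, eq_comm, ← sub_eq_zero, ← map_sub]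
  exact (hred (i + 1) _).1 hy

end GrothLib.PerfTor
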